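import Mathlib

/-! Truncated polynomial algebras `k[X]/(X_i^(p^(e_i)))` and Frobenius images. -/

set_option autoImplicit false
open MvPolynomial

namespace TruncPoly

universe u

variable (p : ℕ) [Fact p.Prime] (k : Type u) [Field k] [CharP k p] [PerfectField k]
  {r : ℕ} (e : Fin r → ℕ)

/-- The defining ideal. -/
noncomputable abbrev I : Ideal (MvPolynomial (Fin r) k) :=
  Ideal.span (Set.range fun i : Fin r => (X i : MvPolynomial (Fin r) k) ^ p ^ e i)

omit [CharP k p] [PerfectField k] [Fact p.Prime] in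
theorem mem_I_iff (f : MvPolynomial (Fin r) k) :
    f ∈ I p k e ↔ ∀ a ∈ f.support, ∃ i, p ^ e i ≤ a i := by
  classical
  have : Set.range (fun i : Fin r => (X i : MvPolynomial (Fin r) k) ^ p ^ e i) =
      (fun s => monomial s (1 : k)) '' Set.range (fun i => Finsupp.single i (p ^ e i)) := by
    rw [← Set.range_comp]
    congr 1
    funext i
    simp [X_pow_eq_monomial]
  rw [I, this, mem_ideal_span_monomial_image]
  refine forall₂_congr fun a _ => ⟨?_, fun ⟨i, hi⟩ => ⟨_, ⟨i, rfl⟩, ?_⟩⟩
  · rintro ⟨_, ⟨i, rfl⟩, h⟩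
    exact ⟨i, by simpa using h i⟩
  · exact Finsupp.single_le_iff.2 hi

/-- The index set of the basis of the image of the `n`-th Frobenius. -/
abbrev Idx (n : ℕ) : Type := ∀ i : Fin r, Fin (p ^ (e i - n))

/-- Exponent of a basis element. -/
noncomputable def expo (n : ℕ) (a : Idx p e n) : Fin r →₀ ℕ :=
  Finsupp.equivFunOnFinite.symm fun i => p ^ n * (a i : ℕ)

omit [Fact p.Prime] in
theorem expo_apply (n : ℕ) (a : Idx p e n) (i : Fin r) : expo p e n a i = p ^ n * (a i : ℕ) := rfl

theorem expo_lt (n : ℕ) (a : Idx p e n) (i : Fin r) : expo p e n a i < p ^ e i := by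
  have hp := (Fact.out : p.Prime).pos
  rw [expo_apply]
  rcases le_or_gt n (e i) with h | h
  · calc p ^ n * (a i : ℕ) < p ^ n * p ^ (e i - n) :=
          Nat.mul_lt_mul_of_pos_left (a i).2 (pow_pos hp n)
      _ = p ^ e i := by rw [← pow_add]; congr 1; omega
  · have h1 : (a i : ℕ) < p ^ (e i - n) := (a i).2
    have h2 : p ^ (e i - n) = 1 := by rw [show e i - n = 0 by omega, pow_zero]
    rw [show (a i : ℕ) = 0 by omega, mul_zero]
    exact pow_pos hp _

/-- The basis element. -/
noncomputable def elt (n : ℕ) (a : Idx p e n) : MvPolynomial (Fin r) k ⧸ I p k e :=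
  Ideal.Quotient.mk _ (monomial (expo p e n a) 1)

omit [CharP k p] [PerfectField k] in
theorem linearIndependent_elt (n : ℕ) : LinearIndependent k (elt p k e n) := by
  classical
  rw [Fintype.linearIndependent_iff]
  intro g hg a
  have hexp : Function.Injective (expo p e n) := fun a b h => funext fun i => by
    have h' := DFunLike.congr_fun h i
    rw [expo_apply, expo_apply] at h'
    exact Fin.ext (Nat.eq_of_mul_eq_mul_left (pow_pos (Fact.out : p.Prime).pos n) h')
  have hmem : (∑ b, g b • monomial (expo p e n b) (1 : k)) ∈ I p k e := by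
    rw [← Ideal.Quotient.eq_zero_iff_mem, map_sum, ← hg]
    exact Finset.sum_congr rfl fun b _ => map_smul (Ideal.Quotient.mkₐ k (I p k e)) (g b) _
  by_contra h
  have hc : coeff (expo p e n a) (∑ b, g b • monomial (expo p e n b) (1 : k)) = g a := by
    rw [coeff_sum, Finset.sum_eq_single a]
    · simp
    · intro b _ hb
      simp [coeff_monomial, hexp.ne hb]
    · simp
  obtain ⟨i, hi⟩ := (mem_I_iff p k e _).1 hmem (expo p e n a) (by rw [mem_support_iff, hc]; exact h)
  exact absurd hi (not_le.2 (expo_lt p e n a i))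

theorem mk_pow_mem_span (n : ℕ) (f : MvPolynomial (Fin r) k) :
    Ideal.Quotient.mk (I p k e) (f ^ p ^ n) ∈ Submodule.span k (Set.range (elt p k e n)) := by
  classical
  rw [f.as_sum, sum_pow_char_pow, map_sum]
  refine Submodule.sum_mem _ fun a _ => ?_
  rw [monomial_pow]
  by_cases h : ∀ i, p ^ n * a i < p ^ e i
  · have ha : ∀ i, a i < p ^ (e i - n) := fun i => by
      rcases le_or_gt n (e i) with hn | hn
      · have := h i
        rw [show e i = n + (e i - n) by omega, pow_add] at this
        exact Nat.lt_of_mul_lt_mul_left this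
      · rw [show e i - n = 0 by omega, pow_zero]
        by_contra hc
        have h1 : p ^ n * 1 ≤ p ^ n * a i := Nat.mul_le_mul_left _ (by omega)
        have h2 : p ^ e i ≤ p ^ n := Nat.pow_le_pow_right (Fact.out : p.Prime).pos hn.le
        have := h i
        omega
    have he : p ^ n • a = expo p e n fun i => ⟨a i, ha i⟩ := by
      ext i
      simp [expo_apply]
    rw [he, ← mul_one (coeff a f ^ p ^ n), ← smul_eq_mul, ← smul_monomial]
    rw [show Ideal.Quotient.mk (I p k e) ((coeff a f ^ p ^ n) • monomial (expo p e n fun i => ⟨a i, ha i⟩) (1 : k)) =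
      (coeff a f ^ p ^ n) • elt p k e n fun i => ⟨a i, ha i⟩ from
        map_smul (Ideal.Quotient.mkₐ k (I p k e)) _ _]
    exact Submodule.smul_mem _ _ (Submodule.subset_span ⟨_, rfl⟩)
  · push_neg at h
    obtain ⟨i, hi⟩ := h
    rw [Ideal.Quotient.eq_zero_iff_mem.2 ((mem_I_iff p k e _).2 fun b hb => ?_)]
    · exact Submodule.zero_mem _
    · refine ⟨i, ?_⟩
      have := support_monomial_subset hb
      rw [Finset.mem_singleton] at this
      subst this
      simpa using hi

theorem range_pow_eq (n : ℕ) :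
    Set.range (fun x : MvPolynomial (Fin r) k ⧸ I p k e => x ^ p ^ n) =
      (Submodule.span k (Set.range (elt p k e n)) : Set _) := by
  refine Set.Subset.antisymm ?_ fun x hx => ?_
  · rintro _ ⟨x, rfl⟩
    obtain ⟨f, rfl⟩ := Ideal.Quotient.mk_surjective x
    show Ideal.Quotient.mk (I p k e) f ^ p ^ n ∈ _
    rw [← map_pow]
    exact mk_pow_mem_span p k e n f
  · haveI := PerfectField.toPerfectRing (K := k) p
    induction hx using Submodule.span_induction with
    | mem x hx =>
      obtain ⟨a, rfl⟩ := hx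
      refine ⟨Ideal.Quotient.mk _ (monomial (Finsupp.equivFunOnFinite.symm fun i => (a i : ℕ)) 1), ?_⟩
      show Ideal.Quotient.mk (I p k e) _ ^ p ^ n = _
      rw [← map_pow, monomial_pow, one_pow, elt,
        show p ^ n • (Finsupp.equivFunOnFinite.symm fun i => (a i : ℕ)) = expo p e n a by
          ext i
          simp [expo_apply]]
    | zero => exact ⟨0, zero_pow (pow_ne_zero n (Fact.out : p.Prime).ne_zero)⟩
    | add x y _ _ hx hy =>
      obtain ⟨x, rfl⟩ := hx
      obtain ⟨y, rfl⟩ := hy
      obtain ⟨f, rfl⟩ := Ideal.Quotient.mk_surjective x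
      obtain ⟨g, rfl⟩ := Ideal.Quotient.mk_surjective y
      refine ⟨Ideal.Quotient.mk _ (f + g), ?_⟩
      show Ideal.Quotient.mk (I p k e) (f + g) ^ p ^ n = _
      rw [← map_pow, add_pow_char_pow, map_add, map_pow, map_pow]
    | smul c x _ hx =>
      obtain ⟨x, rfl⟩ := hx
      obtain ⟨d, hd⟩ := (iterateFrobeniusEquiv k p n).surjective c
      rw [iterateFrobeniusEquiv_def] at hd
      refine ⟨d • x, ?_⟩
      show (d • x) ^ p ^ n = c • x ^ p ^ n
      rw [smul_pow, hd]

theorem finrank_span (n : ℕ) :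
    Module.finrank k (Submodule.span k (Set.range (elt p k e n))) = p ^ ∑ i, (e i - n) := by
  rw [finrank_span_eq_card (linearIndependent_elt p k e n), Fintype.card_pi]
  simp [Finset.prod_pow_eq_pow_sum]

theorem sum_eq {s : ℕ} (f : Fin s → ℕ)
    (φ : (MvPolynomial (Fin r) k ⧸ I p k e) ≃ₐ[k] (MvPolynomial (Fin s) k ⧸ I p k f)) (n : ℕ) :
    ∑ i, (e i - n) = ∑ j, (f j - n) := by
  apply Nat.pow_right_injective (Fact.out : p.Prime).two_le
  show p ^ _ = p ^ _
  rw [← finrank_span p k e n, ← finrank_span p k f n]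
  have hmap : (Submodule.span k (Set.range (elt p k e n))).map φ.toLinearEquiv.toLinearMap =
      Submodule.span k (Set.range (elt p k f n)) := by
    apply SetLike.coe_injective
    rw [Submodule.map_coe, ← range_pow_eq, ← range_pow_eq, ← Set.range_comp]
    refine Set.Subset.antisymm ?_ ?_
    · rintro _ ⟨x, rfl⟩
      exact ⟨φ x, (map_pow φ x _).symm⟩
    · rintro _ ⟨y, rfl⟩
      refine ⟨φ.symm y, ?_⟩
      show φ (φ.symm y ^ p ^ n) = y ^ p ^ n
      rw [map_pow, AlgEquiv.apply_symm_apply]
  rw [← hmap]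
  exact (φ.toLinearEquiv.finrank_map_eq _).symm

end TruncPoly

theorem exists_equiv_of_sum_sub_eq {r s : ℕ} (e : Fin r → ℕ) (f : Fin s → ℕ) (he : ∀ i, 1 ≤ e i)
    (hf : ∀ j, 1 ≤ f j) (h : ∀ n, ∑ i, (e i - n) = ∑ j, (f j - n)) :
    ∃ σ : Fin r ≃ Fin s, ∀ i, f (σ i) = e i := by
  have key : ∀ {t : ℕ} (g : Fin t → ℕ) (n : ℕ), ∑ i, (g i - n) + ∑ i, (g i - (n + 2)) =
      2 * ∑ i, (g i - (n + 1)) + (Finset.univ.filter fun i => g i = n + 1).card := by
    intro t g n
    rw [Finset.card_filter, Finset.mul_sum, ← Finset.sum_add_distrib, ← Finset.sum_add_distrib]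
    refine Finset.sum_congr rfl fun i _ => ?_
    split_ifs <;> omega
  have hcard : ∀ m, (Finset.univ.filter fun i => e i = m).card =
      (Finset.univ.filter fun j => f j = m).card := by
    intro m
    rcases m with _ | n
    · rw [Finset.filter_false_of_mem (fun i _ => by have := he i; omega),
        Finset.filter_false_of_mem (fun i _ => by have := hf i; omega)]
      simp
    · have h1 := key e n
      have h2 := key f n
      rw [h n, h (n + 1), h (n + 2)] at h1
      omega
  have hc : ∀ m, Fintype.card { i // e i = m } = Fintype.card { j // f j = m } := fun m => by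
    rw [Fintype.card_subtype, Fintype.card_subtype]
    exact hcard m
  exact ⟨Equiv.ofFiberEquiv fun m => Fintype.equivOfCardEq (hc m), fun i => Equiv.ofFiberEquiv_map _ i⟩
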